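import Groth.Agent.Lib.FPExt9.Colim
import Groth.Agent.Lib.FlatFP.InjCokerSheaf
import Groth.Agent.Lib.FunFlat6.Vanish
import Groth.Agent.Lib.Cohom.Serre
import Groth.Agent.Lib.BCCrit.ModelExists
import Groth.Agent.Lib.LimModMap20.Basic

/-!
# Quotients of finitely presented modules, prescribed on a quasi-compact open
-/

set_option autoImplicit false
set_option linter.style.haveILetI false
set_option backward.isDefEq.respectTransparency false
set_option maxHeartbeats 1000000

universe u

open CategoryTheory CategoryTheory.Limits AlgebraicGeometry TopologicalSpace Opposite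

noncomputable section

namespace GrothLib.FPQuot20

variable {X : Scheme.{u}} [CompactSpace X] [QuasiSeparatedSpace X]

/-- A module of finite type is a quotient of a finitely presented one. -/
theorem exists_epi_fp (F : X.Modules) [F.IsQuasicoherent] (hF : CohB1.IsFT F) :
    ∃ (D : X.Modules) (ψ : D ⟶ F), CohB1.IsFP D ∧ Epi ψ := by
  classical
  obtain ⟨I, _, _, D, c, hc, hD, hpt⟩ := FPExt9.exists_filtered_colimit F ‹F.IsQuasicoherent›
  subst hpt
  obtain ⟨ι, _, W, hW, -, hcov⟩ := QCoh.exists_finite_affine_cover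
    (U := (⊤ : X.Opens)) isCompact_univ
  choose s hs using fun l => (FittSheaf.finite_sections hF ⟨W l, hW l⟩).fg_top
  haveI := Fintype.ofFinite (Σ l, s l)
  choose j₀ x₀ hx₀ using fun p : (Σ l, s l) => HomColim20.sec_gen hc (hW p.1).isCompact p.2.1
  obtain ⟨j, hj⟩ := IsFiltered.sup_objs_exists (Finset.univ.image j₀)
  haveI : (D.obj j).IsQuasicoherent := FibPd.isQuasicoherent_of_isFP (hD j)
  let ψ : D.obj j ⟶ c.pt := c.ι.app j
  haveI := QCoh.isQuasicoherent_cokernel ψ
  refine ⟨D.obj j, ψ, hD j, Abelian.epi_of_cokernel_π_eq_zero _ ?_⟩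
  refine FunFlat6.eq_zero_of_cover _ W hW (fun y => Opens.mem_iSup.1 (hcov (Opens.mem_top y))) fun l t => ?_
  have hker : Submodule.span Γ(X, W l) (s l : Set Γ(c.pt, W l)) ≤
      LinearMap.ker (QCoh.appLinear (cokernel.π ψ) (W l)) := by
    refine Submodule.span_le.2 fun g hg => ?_
    let e := (hj (Finset.mem_image_of_mem j₀ (Finset.mem_univ ⟨l, g, hg⟩))).some
    show (cokernel.π ψ).app (W l) g = 0
    have h1 : ψ.app (W l) ((D.map e).app (W l) (x₀ ⟨l, g, hg⟩)) = g :=
      (HomColim20.ι_app_map_app e _).trans (hx₀ ⟨l, g, hg⟩)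
    rw [← h1, ← ConcreteCategory.comp_apply, ← Scheme.Modules.Hom.comp_app, cokernel.condition]
    rfl
  exact (hs l ▸ hker) (Submodule.mem_top (x := t))

omit [CompactSpace X] [QuasiSeparatedSpace X] in
/-- A biproduct of finitely presented modules is finitely presented. -/
theorem isFP_biprod {M N : X.Modules} (hM : CohB1.IsFP M) (hN : CohB1.IsFP N) : CohB1.IsFP (M ⊞ N) := by
  haveI : M.IsQuasicoherent := FibPd.isQuasicoherent_of_isFP hM
  haveI : N.IsQuasicoherent := FibPd.isQuasicoherent_of_isFP hN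
  haveI := Cohom.isQuasicoherent_biprod M N
  refine FlatFP.isFP_of_sections (M ⊞ N) (fun U : X.affineOpens => U.1) (iSup_affineOpens_eq_top X)
    (fun U => U.2) fun U => ?_
  haveI := FlatFP.finitePresentation_sections M hM U.2
  haveI := FlatFP.finitePresentation_sections N hN U.2
  let l := fun {A B : X.Modules} (f : A ⟶ B) => QCoh.appLinear f U.1
  have hcomp : ∀ {A B C : X.Modules} (f : A ⟶ B) (g : B ⟶ C) (x : Γ(A, U.1)), l g (l f x) = l (f ≫ g) x :=
    fun f g x => rfl
  refine Module.FinitePresentation.of_equiv (M := Γ(M, U.1) × Γ(N, U.1)) (LinearEquiv.ofLinearMap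
    ((l (biprod.inl : M ⟶ M ⊞ N)).coprod (l (biprod.inr : N ⟶ M ⊞ N)))
    ((l (biprod.fst : M ⊞ N ⟶ M)).prod (l (biprod.snd : M ⊞ N ⟶ N))) (LinearMap.ext fun x => ?_)
    (LinearMap.ext fun x => ?_))
  · simp only [LinearMap.comp_apply, LinearMap.coprod_apply, LinearMap.prod_apply, Function.prod, hcomp,
      LinearMap.id_apply]
    exact (show _ = l (biprod.fst ≫ biprod.inl + biprod.snd ≫ biprod.inr) x from rfl).trans (by
      rw [biprod.total]; rfl)
  · simp only [LinearMap.comp_apply, LinearMap.coprod_apply, LinearMap.prod_apply, Function.prod, map_add, hcomp,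
      LinearMap.id_apply]
    refine Prod.ext ?_ ?_ <;> simp only [Prod.fst_add, Prod.snd_add, biprod.inl_fst, biprod.inr_fst, biprod.inl_snd,
      biprod.inr_snd]
    · exact (congrArg₂ (· + ·) rfl (show (0 : Γ(M, U.1)) = 0 from rfl)).trans (add_zero x.1)
    · exact (congrArg₂ (· + ·) (show (0 : Γ(N, U.1)) = 0 from rfl) rfl).trans (zero_add x.2)

/-- The finitely presented module surjecting on a module of finite type can be made isomorphic to it on a
quasi-compact open where the latter is finitely presented. -/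
theorem exists_fp_quotient (F : X.Modules) [F.IsQuasicoherent] (hF : CohB1.IsFT F) (U : X.Opens)
    (hU : IsCompact (U : Set X)) (hFU : CohB1.IsFP (F.restrict U.ι)) :
    ∃ (G : X.Modules) (φ : G ⟶ F), CohB1.IsFP G ∧ Epi φ ∧
      IsIso ((Scheme.Modules.restrictFunctor U.ι).map φ) := by
  let R := Scheme.Modules.restrictFunctor U.ι
  haveI : R.IsLeftAdjoint := (Scheme.Modules.restrictAdjunction U.ι).isLeftAdjoint
  haveI : R.Additive := (Scheme.Modules.restrictAdjunction U.ι).left_adjoint_additive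
  obtain ⟨D, ψ, hD, hψ⟩ := exists_epi_fp F hF
  obtain ⟨G', φ', e₀, hG', he₀⟩ := FPExt9.exists_extension F ‹F.IsQuasicoherent› U hU _ hFU (𝟙 _)
  haveI : IsIso (R.map φ') := by
    rw [← he₀, Category.comp_id]
    infer_instance
  haveI : D.IsQuasicoherent := FibPd.isQuasicoherent_of_isFP hD
  haveI : G'.IsQuasicoherent := FibPd.isQuasicoherent_of_isFP hG'
  haveI : (G' ⊞ D).IsQuasicoherent := Cohom.isQuasicoherent_biprod G' D
  let v : G' ⊞ D ⟶ F := biprod.desc φ' ψ
  haveI := QCoh.isQuasicoherent_kernel v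
  let a : R.obj D ⟶ R.obj G' := R.map ψ ≫ inv (R.map φ')
  let d₀ : R.obj D ⟶ R.obj (G' ⊞ D) := R.map biprod.inr - a ≫ R.map biprod.inl
  have hd₀ : d₀ ≫ R.map v = 0 := by
    rw [Preadditive.sub_comp, Category.assoc, ← R.map_comp, ← R.map_comp, biprod.inr_desc, biprod.inl_desc,
      Category.assoc, IsIso.inv_hom_id, Category.comp_id, sub_self]
  haveI : PreservesLimit (parallelPair v 0) R := inferInstance
  let d : R.obj D ⟶ R.obj (kernel v) := kernel.lift (R.map v) d₀ hd₀ ≫ (PreservesKernel.iso R v).inv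
  have hd : d ≫ R.map (kernel.ι v) = d₀ := by
    rw [Category.assoc, PreservesKernel.iso_inv_ι, kernel.lift_ι]
  obtain ⟨K', k', e₁, hK', he₁⟩ := FPExt9.exists_extension (kernel v) inferInstance U hU _
    (BCCrit.isFP_restrict U D hD) d
  haveI : K'.IsQuasicoherent := FibPd.isQuasicoherent_of_isFP hK'
  let w : K' ⟶ G' ⊞ D := k' ≫ kernel.ι v
  have hwv : w ≫ v = 0 := by rw [Category.assoc, kernel.condition, comp_zero]
  let φ : cokernel w ⟶ F := cokernel.desc w v hwv
  haveI : Epi v := epi_of_epi_fac (biprod.inr_desc φ' ψ)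
  haveI : Epi φ := epi_of_epi_fac (cokernel.π_desc w v hwv)
  refine ⟨cokernel w, φ, FlatFP.isFP_cokernel w (isFP_biprod hG' hD) hK', inferInstance, ?_⟩
  let π := cokernel.π w
  have hrel : R.map biprod.inr ≫ R.map π = a ≫ R.map biprod.inl ≫ R.map π := by
    have h1 : e₁.hom ≫ d₀ ≫ R.map π = 0 := by
      rw [← hd, ← Category.assoc e₁.hom, ← Category.assoc e₁.hom, he₁, ← R.map_comp, ← R.map_comp,
        cokernel.condition, R.map_zero]
    have h2 : d₀ ≫ R.map π = 0 := by rw [← cancel_epi e₁.hom, h1, comp_zero]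
    rw [Preadditive.sub_comp, Category.assoc, sub_eq_zero] at h2
    exact h2
  let ρ : R.obj F ⟶ R.obj (cokernel w) := inv (R.map φ') ≫ R.map biprod.inl ≫ R.map π
  have hπφ : R.map π ≫ R.map φ = R.map v := by rw [← R.map_comp, cokernel.π_desc]
  refine ⟨ρ, ?_, ?_⟩
  · rw [← cancel_epi (R.map π), Category.comp_id, ← Category.assoc, hπφ]
    have hid : 𝟙 (R.obj (G' ⊞ D)) = R.map biprod.fst ≫ R.map biprod.inl + R.map biprod.snd ≫ R.map biprod.inr := by
      rw [← R.map_comp, ← R.map_comp, ← R.map_add, biprod.total, R.map_id]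
    calc R.map v ≫ ρ = (R.map biprod.fst ≫ R.map biprod.inl + R.map biprod.snd ≫ R.map biprod.inr) ≫ R.map v ≫ ρ := by
          rw [← hid, Category.id_comp]
      _ = (R.map biprod.fst ≫ R.map biprod.inl + R.map biprod.snd ≫ R.map biprod.inr) ≫ R.map π := by
          have e1 : R.map biprod.inl ≫ R.map v ≫ ρ = R.map biprod.inl ≫ R.map π := by
            rw [← Category.assoc, ← R.map_comp, biprod.inl_desc]
            simp only [ρ, IsIso.hom_inv_id_assoc]
          have e2 : R.map biprod.inr ≫ R.map v ≫ ρ = R.map biprod.inr ≫ R.map π := by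
            rw [← Category.assoc, ← R.map_comp, biprod.inr_desc, hrel]
            simp only [ρ, a, Category.assoc]
          simp only [Preadditive.add_comp, Category.assoc, e1, e2]
      _ = R.map π := by rw [← hid, Category.id_comp]
  · show ρ ≫ R.map φ = 𝟙 (R.obj F)
    simp only [ρ, Category.assoc]
    rw [hπφ, ← R.map_comp, biprod.inl_desc, IsIso.inv_hom_id]

end GrothLib.FPQuot20
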