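import Groth.Agent.Lib.FPQuot20.Main
import Mathlib.Order.Antisymmetrization

/-!
# Modules of finite type as directed colimits of finitely presented quotients
-/

set_option autoImplicit false
set_option linter.style.haveILetI false
set_option backward.isDefEq.respectTransparency false
set_option maxHeartbeats 1000000

universe u

open CategoryTheory CategoryTheory.Limits AlgebraicGeometry TopologicalSpace Opposite

noncomputable section

namespace GrothLib.FPQuot20

variable {X : Scheme.{u}}

section system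

variable {I : Type u} (E : I → X.Modules) {D : X.Modules} (w : ∀ i, E i ⟶ D)

/-- Indices with the order by the vanishing in the quotient. -/
def Idx (_ : ∀ i, E i ⟶ D) : Type u := I

instance : Preorder (Idx E w) where
  le i k := w i ≫ cokernel.π (w k) = 0
  le_refl i := cokernel.condition (w i)
  le_trans i k l h h' := by
    show w i ≫ cokernel.π (w l) = 0
    rw [← cokernel.π_desc (w k) (cokernel.π (w l)) h', ← Category.assoc, h, zero_comp]

/-- The poset of quotients. -/
abbrev QIdx : Type u := Antisymmetrization (Idx E w) (· ≤ ·)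

/-- A representative. -/
def rep (j : QIdx E w) : I := ofAntisymmetrization (α := Idx E w) (· ≤ ·) j

theorem rep_le {j k : QIdx E w} (h : j ≤ k) : w (rep E w j) ≫ cokernel.π (w (rep E w k)) = 0 :=
  (ofAntisymmetrization_le_ofAntisymmetrization_iff (α := Idx E w)).2 h

/-- The system of quotients. -/
def quotDiag : QIdx E w ⥤ X.Modules where
  obj j := cokernel (w (rep E w j))
  map {j k} h := cokernel.desc _ (cokernel.π (w (rep E w k))) (rep_le E w h.le)
  map_id j := coequalizer.hom_ext (by simp)
  map_comp f g := coequalizer.hom_ext (by simp)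

theorem π_map {j k : QIdx E w} (h : j ⟶ k) :
    cokernel.π (w (rep E w j)) ≫ (quotDiag E w).map h = cokernel.π (w (rep E w k)) :=
  cokernel.π_desc _ _ _

instance {j k : QIdx E w} (h : j ⟶ k) : Epi ((quotDiag E w).map h) :=
  epi_of_epi_fac (π_map E w h)

variable {F : X.Modules} (ψ : D ⟶ F) (hψ : ∀ i, w i ≫ ψ = 0)

/-- The cocone on the quotient by all. -/
def quotCocone : quotDiag E w ⟶ (Functor.const (QIdx E w)).obj F where
  app j := cokernel.desc _ ψ (hψ _)
  naturality j k h := coequalizer.hom_ext (by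
    dsimp
    rw [Category.comp_id, ← Category.assoc, π_map, cokernel.π_desc, cokernel.π_desc])

theorem isColimit_quotCocone [Nonempty I] [IsDirected (QIdx E w) (· ≤ ·)] [Epi ψ]
    (hgen : ∀ {M : X.Modules} (t : D ⟶ M), (∀ i, w i ≫ t = 0) → kernel.ι ψ ≫ t = 0) :
    Nonempty (IsColimit (Cocone.mk F (quotCocone E w ψ hψ))) := by
  haveI : Nonempty (QIdx E w) := ⟨toAntisymmetrization (α := Idx E w) (· ≤ ·) (Classical.arbitrary I)⟩
  let j₀ : QIdx E w := Classical.arbitrary _
  have hindep : ∀ (s : Cocone (quotDiag E w)) (j : QIdx E w),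
      cokernel.π (w (rep E w j)) ≫ s.ι.app j = cokernel.π (w (rep E w j₀)) ≫ s.ι.app j₀ := fun s j => by
    obtain ⟨k, hj, hj₀⟩ := directed_of (· ≤ ·) j j₀
    rw [← s.w (homOfLE hj), ← s.w (homOfLE hj₀), ← Category.assoc, π_map, ← Category.assoc, π_map]
  have hkill : ∀ (s : Cocone (quotDiag E w)) (i : I), w i ≫ cokernel.π (w (rep E w j₀)) ≫ s.ι.app j₀ = 0 :=
    fun s i => by
      let j : QIdx E w := toAntisymmetrization (α := Idx E w) (· ≤ ·) i
      have hi : w i ≫ cokernel.π (w (rep E w j)) = 0 :=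
        toAntisymmetrization_le_toAntisymmetrization_iff.1
          (toAntisymmetrization_ofAntisymmetrization (α := Idx E w) (· ≤ ·) j).ge
      rw [← hindep s j, ← Category.assoc, hi, zero_comp]
  refine ⟨{
    desc := fun s => Abelian.epiDesc ψ _ (hgen _ (hkill s))
    fac := fun s j => coequalizer.hom_ext ?_
    uniq := fun s m hm => ?_ }⟩
  · show cokernel.π (w (rep E w j)) ≫ cokernel.desc _ ψ _ ≫ _ = cokernel.π (w (rep E w j)) ≫ _
    rw [cokernel.π_desc_assoc, Abelian.comp_epiDesc, hindep s j]
  · rw [← cancel_epi ψ, Abelian.comp_epiDesc, ← hm j₀]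
    show ψ ≫ m = cokernel.π (w (rep E w j₀)) ≫ cokernel.desc _ ψ _ ≫ m
    rw [cokernel.π_desc_assoc]

end system

theorem exists_directed_colimit [CompactSpace X] [QuasiSeparatedSpace X] (F : X.Modules) [F.IsQuasicoherent]
    (hF : CohB1.IsFT F) :
    ∃ (J : Type u) (_ : PartialOrder J) (_ : IsDirected J (· ≤ ·)) (_ : Nonempty J) (D : J ⥤ X.Modules)
      (ι : D ⟶ (Functor.const J).obj F), Nonempty (IsColimit (Cocone.mk F ι)) ∧
      (∀ j, CohB1.IsFP (D.obj j)) ∧ ∀ (j j' : J) (h : j ⟶ j'), Epi (D.map h) := by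
  classical
  obtain ⟨D, ψ, hD, hψ⟩ := exists_epi_fp F hF
  haveI : D.IsQuasicoherent := FibPd.isQuasicoherent_of_isFP hD
  haveI := QCoh.isQuasicoherent_kernel ψ
  obtain ⟨I, _, _, K, c, hc, hK, hpt⟩ := FPExt9.exists_filtered_colimit (kernel ψ) inferInstance
  let w : ∀ i, K.obj i ⟶ D := fun i => c.ι.app i ≫ eqToHom hpt ≫ kernel.ι ψ
  have hw : ∀ i, w i ≫ ψ = 0 := fun i => by simp [w, kernel.condition]
  have hmono : ∀ {i k : I} (f : i ⟶ k), w i ≫ cokernel.π (w k) = 0 := fun {i k} f => by
    have : w i = K.map f ≫ w k := by simp only [w, ← Category.assoc, c.w f]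
    rw [this, Category.assoc, cokernel.condition, comp_zero]
  haveI : Nonempty I := IsFiltered.nonempty
  haveI : IsDirected (QIdx K.obj w) (· ≤ ·) := ⟨fun a b => by
    induction a using Antisymmetrization.ind with | _ a => ?_
    induction b using Antisymmetrization.ind with | _ b => ?_
    exact ⟨toAntisymmetrization (α := Idx K.obj w) (· ≤ ·) (IsFiltered.max (C := I) a b),
      toAntisymmetrization_le_toAntisymmetrization_iff.2 (hmono (IsFiltered.leftToMax (C := I) a b)),
      toAntisymmetrization_le_toAntisymmetrization_iff.2 (hmono (IsFiltered.rightToMax (C := I) a b))⟩⟩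
  refine ⟨QIdx K.obj w, inferInstance, inferInstance,
    ⟨toAntisymmetrization (α := Idx K.obj w) (· ≤ ·) (Classical.arbitrary I)⟩, quotDiag K.obj w,
    quotCocone K.obj w ψ hw, isColimit_quotCocone K.obj w ψ hw (fun {M} t ht => ?_), fun j => ?_,
    fun _ _ h => inferInstance⟩
  · have h0 : eqToHom hpt ≫ kernel.ι ψ ≫ t = 0 := hc.hom_ext fun i => by
      rw [comp_zero]
      simpa only [w, Category.assoc] using ht i
    rw [← cancel_epi (eqToHom hpt), h0, comp_zero]
  · haveI : (K.obj (rep K.obj w j)).IsQuasicoherent := FibPd.isQuasicoherent_of_isFP (hK _)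
    exact FlatFP.isFP_cokernel _ hD (hK _)

end GrothLib.FPQuot20
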